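/-
Automorphisms of formally smooth deformations lift along small extensions.
-/
import Groth.Agent.CohenLib.SmoothLift
import Mathlib.RingTheory.Artinian.Ring
import Mathlib.RingTheory.LocalRing.ResidueField.Basic

set_option autoImplicit false
set_option backward.isDefEq.respectTransparency false

universe u

open IsLocalRing

namespace DeformLiftLib

theorem bijective_of_congr {A B : Type u} [CommRing A] [CommRing B] [Algebra A B] (t : A)
    (ht : t * t = 0) (φ : B →ₐ[A] B)
    (h : ∀ b, φ b - b ∈ Ideal.span {algebraMap A B t}) : Function.Bijective φ := by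
  have hfix : ∀ x ∈ Ideal.span {algebraMap A B t}, φ x = x := fun x hx => by
    obtain ⟨b, rfl⟩ := Ideal.mem_span_singleton.1 hx
    obtain ⟨c, hc⟩ := Ideal.mem_span_singleton.1 (h b)
    rw [map_mul, AlgHom.commutes, ← sub_eq_zero, ← mul_sub, hc, ← mul_assoc, ← map_mul, ht,
      map_zero, zero_mul]
  refine ⟨(injective_iff_map_eq_zero φ).2 fun b hb => ?_, fun b => ⟨b - (φ b - b), ?_⟩⟩
  · have hbt : b ∈ Ideal.span {algebraMap A B t} := by
      have := h b
      rwa [hb, zero_sub, neg_mem_iff] at this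
    rw [← hfix b hbt, hb]
  · rw [map_sub, hfix _ (h b), sub_sub_cancel]

theorem exists_lift {k : Type u} [Field k]
    {A : Type u} [CommRing A] [Algebra k A] [IsLocalRing A] [IsArtinianRing A]
    (hres : ∀ a : A, ∃ c : k, a - algebraMap k A c ∈ maximalIdeal A)
    (t : A) (ht : t ∈ maximalIdeal A) (htm : ∀ a ∈ maximalIdeal A, a * t = 0)
    {B : Type u} [CommRing B] [Algebra A B] [Module.Flat A B] [Algebra k B] [IsScalarTower k A B]
    (hsm : Algebra.FormallySmooth k (B ⧸ (maximalIdeal A).map (algebraMap A B)))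
    (σ : (B ⧸ Ideal.span {algebraMap A B t}) ≃ₐ[A] (B ⧸ Ideal.span {algebraMap A B t})) :
    ∃ τ : B ≃ₐ[A] B, ∀ b : B,
      Ideal.Quotient.mk (Ideal.span {algebraMap A B t}) (τ b) =
        σ (Ideal.Quotient.mk (Ideal.span {algebraMap A B t}) b) := by
  have hk : Function.Bijective ((residue A).comp (algebraMap k A)) := by
    refine ⟨RingHom.injective _, fun x => ?_⟩
    obtain ⟨a, rfl⟩ := residue_surjective x
    obtain ⟨c, hc⟩ := hres a
    exact ⟨c, (sub_eq_zero.1 (by rw [← map_sub, residue_eq_zero_iff]; exact hc :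
      residue A a - residue A (algebraMap k A c) = 0)).symm⟩
  let ρ : A →+* k := (RingEquiv.ofBijective _ hk).symm.toRingHom.comp (residue A)
  have hρ : Function.Surjective ρ :=
    (RingEquiv.ofBijective _ hk).symm.surjective.comp residue_surjective
  have hker : RingHom.ker ρ = maximalIdeal A := by
    refine Ideal.ext fun a => ?_
    rw [RingHom.mem_ker, ← residue_eq_zero_iff]
    exact map_eq_zero_iff _ (RingEquiv.ofBijective _ hk).symm.injective
  have hρa : ∀ a, a - algebraMap k A (ρ a) ∈ maximalIdeal A := fun a => by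
    rw [← residue_eq_zero_iff, map_sub, sub_eq_zero]
    exact ((RingEquiv.ofBijective _ hk).apply_symm_apply (residue A a)).symm
  have : Algebra.FormallySmooth A B := CohenLib.formallySmooth_of_flat_of_quotient ρ hρ
    (Ideal.Quotient.mk ((maximalIdeal A).map (algebraMap A B))) Ideal.Quotient.mk_surjective
    (RingHom.ext fun a => by
      show Ideal.Quotient.mk _ (algebraMap A B a) = Ideal.Quotient.mk _ (algebraMap k B (ρ a))
      rw [Ideal.Quotient.eq, IsScalarTower.algebraMap_apply k A B, ← map_sub]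
      exact Ideal.mem_map_of_mem _ (hρa a))
    (by
      rw [hker, ← IsLocalRing.jacobson_eq_maximalIdeal (⊥ : Ideal A) bot_ne_top]
      exact IsArtinianRing.isNilpotent_jacobson_bot)
    (by rw [Ideal.mk_ker, hker])
  have htt : t * t = 0 := htm t ht
  have hnil : IsNilpotent (Ideal.span {algebraMap A B t}) := ⟨2, by
    rw [Ideal.span_singleton_pow, sq, ← map_mul, htt, map_zero, Ideal.span_singleton_eq_bot.2 rfl]
    rfl⟩
  let T := Ideal.span {algebraMap A B t}
  let φ₀ := Algebra.FormallySmooth.lift T hnil (σ.toAlgHom.comp (Ideal.Quotient.mkₐ A T))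
  let ψ₀ := Algebra.FormallySmooth.lift T hnil (σ.symm.toAlgHom.comp (Ideal.Quotient.mkₐ A T))
  have hφ : ∀ b, Ideal.Quotient.mk T (φ₀ b) = σ (Ideal.Quotient.mk T b) :=
    Algebra.FormallySmooth.mk_lift T hnil _
  have hψ : ∀ b, Ideal.Quotient.mk T (ψ₀ b) = σ.symm (Ideal.Quotient.mk T b) :=
    Algebra.FormallySmooth.mk_lift T hnil _
  have h1 := bijective_of_congr t htt (φ₀.comp ψ₀) fun b => by
    rw [← Ideal.Quotient.eq, AlgHom.comp_apply, hφ, hψ, AlgEquiv.apply_symm_apply]
  have h2 := bijective_of_congr t htt (ψ₀.comp φ₀) fun b => by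
    rw [← Ideal.Quotient.eq, AlgHom.comp_apply, hψ, hφ, AlgEquiv.symm_apply_apply]
  have h2' : Function.Injective (⇑ψ₀ ∘ ⇑φ₀) := h2.1
  have h1' : Function.Surjective (⇑φ₀ ∘ ⇑ψ₀) := h1.2
  exact ⟨AlgEquiv.ofBijective φ₀ ⟨h2'.of_comp, h1'.of_comp⟩, hφ⟩

end DeformLiftLib
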